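import Mathlib
import Cfsg.Agent.H192.Af.Defs

/-!
# S5731, affine core: one orbit (sharp form of the rank criterion)

`O` the orbit of `w ≠ 0`, `f h` the number of fixed points of `h` on `O`: `∑ f = |H|`; if `∑ f² ≤ R |H|` and
`(R + 1) (√n + 1) ≤ 2 n`, then `Tgt V H`.
-/

set_option autoImplicit false

namespace Cfsg.Agent.H69.Af

open Cfsg.Agent.H192.Af

universe u v

variable {V : Type u} [AddCommGroup V] {H : Type v} [Group H] [DistribMulAction H V]

/-- fixed points on the orbit -/
noncomputable def fo (w : V) (h : H) : ℕ := Nat.card (MulAction.fixedBy (MulAction.orbit H w) h)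

theorem fixc_pos [Finite V] (h : H) : 1 ≤ fixc V h := by
  have : Nonempty {w : V // h • w = w} := ⟨⟨0, smul_zero h⟩⟩
  exact Nat.card_pos

theorem fo_lt [Finite V] {w : V} (hw : w ≠ 0) (h : H) : fo w h + 1 ≤ fixc V h := by
  classical
  unfold fo fixc
  have e : Nat.card (Option (MulAction.fixedBy (MulAction.orbit H w) h)) =
      Nat.card (MulAction.fixedBy (MulAction.orbit H w) h) + 1 := Finite.card_option
  rw [← e]
  refine Nat.card_le_card_of_injective
    (fun x => match x with
      | none => (⟨0, smul_zero h⟩ : {w : V // h • w = w})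
      | some y => ⟨(y.1 : V), congrArg Subtype.val y.2⟩) ?_
  have hne : ∀ y : MulAction.fixedBy (MulAction.orbit H w) h, ((y.1 : V)) ≠ 0 := by
    rintro ⟨⟨x, ⟨g, rfl⟩⟩, _⟩ h0
    exact hw ((smul_eq_zero_iff_eq g).1 h0)
  intro a b hab
  cases a with
  | none =>
    cases b with
    | none => rfl
    | some b => exact absurd (congrArg Subtype.val hab).symm (hne b)
  | some a =>
    cases b with
    | none => exact absurd (congrArg Subtype.val hab) (hne a)
    | some b =>
      have := congrArg Subtype.val hab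
      exact congrArg some (Subtype.ext (Subtype.ext this))

theorem fo_le [Finite V] (w : V) (h : H) : fo w h ≤ Nat.card (MulAction.orbit H w) :=
  Finite.card_subtype_le _

theorem fo_one (w : V) : fo w (1 : H) = Nat.card (MulAction.orbit H w) := by
  unfold fo
  rw [MulAction.fixedBy_one_eq_univ]
  exact Nat.card_univ

theorem sum_fo [Finite V] [Fintype H] (w : V) : ∑ h : H, fo w h = Fintype.card H := by
  classical
  have : Fintype (MulAction.orbit H w) := Fintype.ofFinite _
  have : Fintype (MulAction.orbitRel.Quotient H (MulAction.orbit H w)) := Fintype.ofFinite _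
  have : ∀ h : H, Fintype (MulAction.fixedBy (MulAction.orbit H w) h) := fun h => Fintype.ofFinite _
  have e := MulAction.sum_card_fixedBy_eq_card_orbits_mul_card_group H (MulAction.orbit H w)
  have h1 : Fintype.card (MulAction.orbitRel.Quotient H (MulAction.orbit H w)) = 1 := by
    have hs : Subsingleton (MulAction.orbitRel.Quotient H (MulAction.orbit H w)) :=
      (MulAction.pretransitive_iff_subsingleton_quotient H _).1 inferInstance
    have hn : Nonempty (MulAction.orbitRel.Quotient H (MulAction.orbit H w)) :=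
      ⟨Quotient.mk'' ⟨w, MulAction.mem_orbit_self w⟩⟩
    exact Fintype.card_eq_one_iff_nonempty_unique.2 ⟨⟨⟨hn.some⟩, fun a => Subsingleton.elim _ _⟩⟩
  rw [h1, one_mul] at e
  rw [← e]
  refine Finset.sum_congr rfl fun h _ => ?_
  unfold fo
  exact Nat.card_eq_fintype_card

theorem tgt_of_fo [Finite V] [Finite H] {w : V} (hw : w ≠ 0) (R : ℝ) (hR0 : 0 ≤ R)
    (hR : ∑ᶠ h : H, ((fo w h : ℕ) : ℝ) ^ 2 ≤ R * Nat.card H)
    (hn : (R + 1) * (Real.sqrt (Nat.card V) + 1) ≤ 2 * Nat.card V) : Tgt V H := by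
  classical
  have : Fintype H := Fintype.ofFinite H
  unfold Tgt
  rw [finsum_eq_sum_of_fintype] at hR ⊢
  have hV : 0 < (Nat.card V : ℝ) := by exact_mod_cast Nat.card_pos
  have hH : (Nat.card H : ℝ) = Fintype.card H := by rw [Nat.card_eq_fintype_card]
  set n : ℝ := (Nat.card V : ℝ) with hnd
  set c : ℝ := (Nat.card H : ℝ) with hc
  have hc0 : 0 ≤ c := by rw [hc]; positivity
  set l : ℝ := 1 / (R + 1) with hl
  have hR1 : 0 < R + 1 := by linarith
  have hs : ∑ h : H, ((fo w h : ℕ) : ℝ) = c := by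
    rw [hH, ← sum_fo (H := H) w]
    push_cast
    rfl
  have key : ∀ h : H, 2 * l * (fo w h : ℝ) - l ^ 2 * ((fo w h : ℝ) + (fo w h : ℝ) ^ 2) ≤
      1 - 1 / (fixc V h : ℝ) := by
    intro h
    have h1 : (fo w h : ℝ) + 1 ≤ (fixc V h : ℝ) := by exact_mod_cast fo_lt hw h
    set f : ℝ := (fo w h : ℝ) with hf
    have hf0 : 0 ≤ f := by rw [hf]; positivity
    have h2 : 1 - 1 / (f + 1) ≤ 1 - 1 / (fixc V h : ℝ) := by
      have := one_div_le_one_div_of_le (by linarith : (0 : ℝ) < f + 1) h1
      linarith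
    refine le_trans ?_ h2
    have h3 : 1 - 1 / (f + 1) - (2 * l * f - l ^ 2 * (f + f ^ 2)) = f / (f + 1) * (1 - l * (f + 1)) ^ 2 := by
      have : f + 1 ≠ 0 := by linarith
      field_simp
      ring
    have h4 : 0 ≤ f / (f + 1) * (1 - l * (f + 1)) ^ 2 := by positivity
    linarith
  have hsum : 2 * l * c - l ^ 2 * (c + R * c) ≤ ∑ h : H, (1 - 1 / (fixc V h : ℝ)) := by
    refine le_trans ?_ (Finset.sum_le_sum fun h _ => key h)
    rw [Finset.sum_sub_distrib, ← Finset.mul_sum, ← Finset.mul_sum, Finset.sum_add_distrib, hs]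
    have : l ^ 2 * (c + ∑ h : H, (fo w h : ℝ) ^ 2) ≤ l ^ 2 * (c + R * c) :=
      mul_le_mul_of_nonneg_left (by linarith) (sq_nonneg l)
    linarith
  refine le_trans ?_ hsum
  have e1 : 2 * l * c - l ^ 2 * (c + R * c) = c / (R + 1) := by
    rw [hl]
    field_simp
    ring
  rw [e1, div_mul_eq_mul_div, div_le_div_iff₀ (by linarith) hR1]
  have := mul_le_mul_of_nonneg_left hn hc0
  linarith

end Cfsg.Agent.H69.Af
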