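import Mathlib
import Cfsg.Agent.H69.Af.Orb

/-!
# S5731, affine core: imprimitive linear groups
-/

set_option autoImplicit false

namespace Cfsg.Agent.H69.Af

open Cfsg.Agent.H192.Af

universe u v

/-- `(1 + k (u - 1))² ≤ u^k` -/
theorem num_six (a : ℕ) (ha : 1 ≤ a) (k : ℕ) (hk : 6 ≤ k) : (1 + k * a) ^ 2 ≤ (a + 1) ^ k := by
  induction k, hk using Nat.le_induction with
  | base =>
    have h : 1 + 6 * a ≤ (a + 1) ^ 3 := by nlinarith [Nat.mul_le_mul ha ha, Nat.mul_le_mul (Nat.mul_le_mul ha ha) ha]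
    calc (1 + 6 * a) ^ 2 ≤ ((a + 1) ^ 3) ^ 2 := Nat.pow_le_pow_left h 2
      _ = (a + 1) ^ 6 := by ring
  | succ k hk ih =>
    rw [pow_succ (a + 1) k]
    refine le_trans ?_ (Nat.mul_le_mul_right (a + 1) ih)
    have h1 : 6 * a ≤ k * a := Nat.mul_le_mul_right a hk
    obtain ⟨t, ht⟩ : ∃ t, t = 1 + k * a := ⟨_, rfl⟩
    have h2 : 1 + (k + 1) * a = t + a := by rw [ht]; ring
    rw [h2, ← ht]
    have h3 : 7 ≤ t := by rw [ht]; omega
    have h4 : a ≤ t := by rw [ht]; omega
    nlinarith [Nat.mul_le_mul h3 (le_refl t), Nat.mul_le_mul h3 h4, Nat.mul_le_mul_right a (Nat.mul_le_mul h3 (le_refl t)), Nat.mul_le_mul_left a h4]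

theorem num_all (a k : ℕ) (ha : 1 ≤ a) (hk : 3 ≤ k) (hn : 344 ≤ (a + 1) ^ k) : (1 + k * a) ^ 2 ≤ (a + 1) ^ k := by
  by_cases h6 : 6 ≤ k
  · exact num_six a ha k h6
  · obtain rfl | rfl | rfl : k = 3 ∨ k = 4 ∨ k = 5 := by omega
    · have h7 : 7 ≤ a := by
        by_contra hlt
        have : a + 1 ≤ 7 := by omega
        have := Nat.pow_le_pow_left this 3
        omega
      obtain ⟨b, rfl⟩ := Nat.exists_eq_add_of_le h7
      ring_nf
      nlinarith [Nat.zero_le (b ^ 2), Nat.zero_le (b ^ 3)]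
    · have h7 : 2 ≤ a := by
        by_contra hlt
        have : a + 1 ≤ 2 := by omega
        have := Nat.pow_le_pow_left this 4
        omega
      have h : 1 + 4 * a ≤ (a + 1) ^ 2 := by nlinarith
      calc (1 + 4 * a) ^ 2 ≤ ((a + 1) ^ 2) ^ 2 := Nat.pow_le_pow_left h 2
        _ = (a + 1) ^ 4 := by ring
    · have h7 : 3 ≤ a := by
        by_contra hlt
        have : a + 1 ≤ 3 := by omega
        have := Nat.pow_le_pow_left this 5
        omega
      have h : 1 + 5 * a ≤ (a + 1) ^ 2 := by nlinarith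
      calc (1 + 5 * a) ^ 2 ≤ ((a + 1) ^ 2) ^ 2 := Nat.pow_le_pow_left h 2
        _ = (a + 1) ^ 4 := by ring
        _ ≤ (a + 1) ^ 5 := Nat.pow_le_pow_right (by omega) (by omega)

section

variable {V : Type u} [AddCommGroup V] [Finite V] {H : Type v} [Group H] [Finite H] [DistribMulAction H V]
  {k : ℕ} {U : Fin k → AddSubgroup V}

theorem card_eq_pow {c : ℕ} (hind : iSupIndep U) (htop : iSup U = ⊤) (hc : ∀ i, Nat.card (U i) = c) :
    Nat.card V = c ^ k := by
  have hcomm : Pairwise fun i j : Fin k => ∀ x y : V, x ∈ U i → y ∈ U j → AddCommute x y :=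
    fun _ _ _ x y _ _ => AddCommute.all x y
  have h1 := AddSubgroup.injective_noncommPiCoprod_of_iSupIndep (H := U) (hcomm := hcomm) hind
  have h2 := AddSubgroup.noncommPiCoprod_range (H := U) (hcomm := hcomm)
  rw [htop] at h2
  have h3 : Function.Surjective (AddSubgroup.noncommPiCoprod hcomm) := AddMonoidHom.range_eq_top.1 h2
  rw [← Nat.card_congr (Equiv.ofBijective _ ⟨h1, h3⟩), Nat.card_pi, Finset.prod_congr rfl fun i _ => hc i,
    Finset.prod_const, Finset.card_univ, Fintype.card_fin]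

omit [Finite H] in
theorem card_orbit_le {c : ℕ} (hc : ∀ i, Nat.card (U i) = c)
    (hperm : ∀ (h : H) i, ∃ j, ∀ w ∈ U i, h • w ∈ U j) {i : Fin k} {w : V} (hw : w ∈ U i) (hw0 : w ≠ 0) :
    Nat.card (MulAction.orbit H w) ≤ k * (c - 1) := by
  classical
  have hsub : MulAction.orbit H w ⊆ ⋃ i, ((U i : Set V) \ {0}) := by
    rintro _ ⟨h, rfl⟩
    obtain ⟨j, hj⟩ := hperm h i
    refine Set.mem_iUnion.2 ⟨j, hj w hw, ?_⟩
    intro h0
    exact hw0 ((smul_eq_zero_iff_eq h).1 h0)
  calc Nat.card (MulAction.orbit H w) = (MulAction.orbit H w).ncard := Nat.card_coe_set_eq _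
    _ ≤ (⋃ i, ((U i : Set V) \ {0})).ncard := Set.ncard_le_ncard hsub (Set.toFinite _)
    _ ≤ ∑ i, ((U i : Set V) \ {0}).ncard := Set.ncard_iUnion_le_of_fintype _
    _ = ∑ _i : Fin k, (c - 1) := by
        refine Finset.sum_congr rfl fun i _ => ?_
        rw [Set.ncard_sdiff_singleton_of_mem (U i).zero_mem, ← Nat.card_coe_set_eq, ← hc i]
        rfl
    _ = k * (c - 1) := by simp

theorem exists_moved [FaithfulSMul H V]
    (hirr : ∀ U : AddSubgroup V, (∀ (h : H), ∀ w ∈ U, h • w ∈ U) → U = ⊥ ∨ U = ⊤) {w : V} (hw : w ≠ 0) {h : H}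
    (hh : h ≠ 1) : ∃ x ∈ MulAction.orbit H w, h • x ≠ x := by
  by_contra hcon
  push Not at hcon
  apply hh
  have hinv : ∀ (g : H), ∀ x ∈ AddSubgroup.closure (MulAction.orbit H w),
      g • x ∈ AddSubgroup.closure (MulAction.orbit H w) := by
    intro g x hx
    induction hx using AddSubgroup.closure_induction with
    | mem x hx =>
      obtain ⟨a, rfl⟩ := hx
      exact AddSubgroup.subset_closure ⟨g * a, mul_smul g a w⟩
    | zero => rw [smul_zero]; exact zero_mem _
    | add x y _ _ hx hy => rw [smul_add]; exact add_mem hx hy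
    | neg x _ hx => rw [smul_neg]; exact neg_mem hx
  have htop : AddSubgroup.closure (MulAction.orbit H w) = ⊤ := by
    rcases hirr _ hinv with h0 | h0
    · exfalso
      apply hw
      have : w ∈ AddSubgroup.closure (MulAction.orbit H w) :=
        AddSubgroup.subset_closure (MulAction.mem_orbit_self w)
      rw [h0] at this
      exact this
    · exact h0
  refine FaithfulSMul.eq_of_smul_eq_smul (α := V) fun x => ?_
  rw [one_smul]
  have hx : x ∈ AddSubgroup.closure (MulAction.orbit H w) := by rw [htop]; trivial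
  induction hx using AddSubgroup.closure_induction with
  | mem x hx => exact hcon x hx
  | zero => rw [smul_zero]
  | add x y _ _ hx hy => rw [smul_add, hx, hy]
  | neg x _ hx => rw [smul_neg, hx]

theorem fo_add_two_le [FaithfulSMul H V]
    (hirr : ∀ U : AddSubgroup V, (∀ (h : H), ∀ w ∈ U, h • w ∈ U) → U = ⊥ ∨ U = ⊤) {w : V} (hw : w ≠ 0) {h : H}
    (hh : h ≠ 1) : fo w h + 2 ≤ Nat.card (MulAction.orbit H w) := by
  classical
  obtain ⟨x, hx, hne⟩ := exists_moved hirr hw hh
  let a : MulAction.orbit H w := ⟨x, hx⟩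
  have ha : h • a ≠ a := fun e => hne (congrArg Subtype.val e)
  have hb : h • (h • a) ≠ h • a := fun e => ha (smul_left_cancel h e)
  have hsub : MulAction.fixedBy (MulAction.orbit H w) h ⊆ ({a, h • a} : Set (MulAction.orbit H w))ᶜ := by
    intro y hy hy2
    rcases hy2 with rfl | rfl
    · exact ha hy
    · exact hb hy
  have h1 := Set.ncard_le_ncard hsub (Set.toFinite _)
  have h2 := Set.ncard_add_ncard_compl ({a, h • a} : Set (MulAction.orbit H w))
  rw [Set.ncard_pair (Ne.symm ha)] at h2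
  have h3 : fo w h = (MulAction.fixedBy (MulAction.orbit H w) h).ncard := rfl
  omega

theorem tgt_of_orbit {w : V} (hw : w ≠ 0) (R : ℕ) (hR : Nat.card (MulAction.orbit H w) ≤ R)
    (hn : ((R : ℝ) + 1) * (Real.sqrt (Nat.card V) + 1) ≤ 2 * Nat.card V) : Tgt V H := by
  classical
  have : Fintype H := Fintype.ofFinite H
  refine tgt_of_fo hw R (by positivity) ?_ hn
  rw [finsum_eq_sum_of_fintype]
  have h1 : ∀ h : H, ((fo w h : ℕ) : ℝ) ^ 2 ≤ R * (fo w h : ℝ) := by
    intro h
    have h2 : (fo w h : ℝ) ≤ R := by exact_mod_cast (fo_le w h).trans hR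
    nlinarith [Nat.cast_nonneg (α := ℝ) (fo w h)]
  refine (Finset.sum_le_sum fun h _ => h1 h).trans ?_
  rw [← Finset.mul_sum, ← Nat.cast_sum, sum_fo, Nat.card_eq_fintype_card]

/-- the identity alone -/
theorem tgt_of_small (h : (Real.sqrt (Nat.card V) + 1) / (2 * Nat.card V) * (Nat.card H : ℝ) ≤
    1 - 1 / (Nat.card V : ℝ)) : Tgt V H := by
  classical
  have : Fintype H := Fintype.ofFinite H
  unfold Tgt
  refine h.trans ?_
  rw [finsum_eq_sum_of_fintype]
  have h1 : ∀ h : H, 0 ≤ 1 - 1 / (fixc V h : ℝ) := by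
    intro h
    have : (1 : ℝ) ≤ (fixc V h : ℝ) := by exact_mod_cast fixc_pos h
    have := one_div_le_one_div_of_le one_pos this
    simp only [div_one] at this
    simpa using this
  have h2 := Finset.single_le_sum (f := fun h : H => 1 - 1 / (fixc V h : ℝ)) (fun h _ => h1 h)
    (Finset.mem_univ (1 : H))
  refine le_trans (le_of_eq ?_) h2
  have h3 : fixc V (1 : H) = Nat.card V := by
    unfold fixc
    simp only [one_smul]
    exact Nat.card_congr (Equiv.subtypeUnivEquiv fun _ => trivial)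
  simp only [h3]

end

/-- **imprimitive linear groups** -/
theorem tgt_of_blocks : ∃ N : ℕ, ∀ (p : ℕ) (V : Type u) [AddCommGroup V] [Finite V] (H : Type v) [Group H]
    [Finite H] [DistribMulAction H V] [FaithfulSMul H V], p.Prime → (∀ w : V, p • w = 0) →
    (∀ U : AddSubgroup V, (∀ (h : H), ∀ w ∈ U, h • w ∈ U) → U = ⊥ ∨ U = ⊤) → N ≤ Nat.card V →
    (∃ h : H, h ≠ 1 ∧ fixc V h ≠ 1) → ∀ (k : ℕ) (U : Fin k → AddSubgroup V), 2 ≤ k → iSupIndep U → iSup U = ⊤ →
      (∀ i, U i ≠ ⊥) → (∀ (h : H) i, ∃ j, ∀ w ∈ U i, h • w ∈ U j) →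
      (∀ i j, ∃ h : H, ∀ w ∈ U i, h • w ∈ U j) → Tgt V H := by
  refine ⟨344, ?_⟩
  intro p V _ _ H _ _ _ _ hp hpV hirr hN _ k U hk hind htop hne hperm htr
  classical
  have hle : ∀ i j, Nat.card (U i) ≤ Nat.card (U j) := by
    intro i j
    obtain ⟨h, hh⟩ := htr i j
    refine Nat.card_le_card_of_injective (fun x : U i => (⟨h • (x : V), hh x x.2⟩ : U j)) ?_
    intro x y hxy
    exact Subtype.ext (smul_left_cancel h (congrArg Subtype.val hxy))
  let i0 : Fin k := ⟨0, by omega⟩
  obtain ⟨c, hc0⟩ : ∃ c, c = Nat.card (U i0) := ⟨_, rfl⟩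
  have hc : ∀ i, Nat.card (U i) = c := fun i => by rw [hc0]; exact le_antisymm (hle _ _) (hle _ _)
  have hV := card_eq_pow hind htop hc
  obtain ⟨w, hw, hw0⟩ : ∃ w ∈ U i0, w ≠ 0 := by
    by_contra hcon
    push Not at hcon
    exact hne i0 ((AddSubgroup.eq_bot_iff_forall _).2 hcon)
  have hc2 : 2 ≤ c := by
    rw [hc0]
    have : Nontrivial (U i0) := ⟨⟨⟨w, hw⟩, 0, fun e => hw0 (congrArg Subtype.val e)⟩⟩
    exact Finite.one_lt_card
  have hO := card_orbit_le (H := H) hc hperm hw hw0
  obtain ⟨a, rfl⟩ : ∃ a, c = a + 1 := ⟨c - 1, by omega⟩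
  rw [Nat.add_sub_cancel] at hO
  by_cases hk3 : 3 ≤ k
  · have h1 := num_all a k (by omega) hk3 (by rw [← hV]; exact hN)
    rw [← hV] at h1
    refine tgt_of_orbit hw0 (k * a) hO ?_
    set n : ℝ := (Nat.card V : ℝ) with hnd
    have hn1 : (1 : ℝ) ≤ n := by rw [hnd]; exact_mod_cast (by omega : 1 ≤ Nat.card V)
    have h2 : (((k * a : ℕ) : ℝ) + 1) ^ 2 ≤ n := by
      have : ((1 + k * a) ^ 2 : ℕ) ≤ Nat.card V := h1
      have := (Nat.cast_le (α := ℝ)).2 this
      push_cast at this ⊢
      rw [hnd]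
      linarith
    have h3 : ((k * a : ℕ) : ℝ) + 1 ≤ Real.sqrt n := Real.le_sqrt_of_sq_le h2
    have h4 : Real.sqrt n * Real.sqrt n = n := Real.mul_self_sqrt (by linarith)
    have h5 : 1 ≤ Real.sqrt n := Real.one_le_sqrt.2 hn1
    nlinarith
  · obtain rfl : k = 2 := by omega
    have hsq : Real.sqrt (Nat.card V) = a + 1 := by
      rw [hV]
      push_cast
      exact Real.sqrt_sq (by positivity)
    have hVr : (Nat.card V : ℝ) = (a + 1) ^ 2 := by rw [hV]; push_cast; rfl
    have ha1 : (1 : ℝ) ≤ a := by exact_mod_cast (by omega : 1 ≤ a)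
    by_cases hlt : Nat.card (MulAction.orbit H w) ≤ 2 * a - 1
    · refine tgt_of_orbit hw0 (2 * a - 1) hlt ?_
      rw [hsq, hVr]
      have : ((2 * a - 1 : ℕ) : ℝ) = 2 * a - 1 := by
        rw [Nat.cast_sub (by omega)]
        push_cast
        rfl
      rw [this]
      nlinarith
    · have hO2 : Nat.card (MulAction.orbit H w) = 2 * a := by omega
      have hos : Nat.card H = 2 * a * Nat.card (MulAction.stabilizer H w) := by
        rw [← hO2, ← Nat.card_prod]
        exact (Nat.card_congr (MulAction.orbitProdStabilizerEquivGroup H w)).symm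
      by_cases hst : Nat.card (MulAction.stabilizer H w) = 1
      · apply tgt_of_small
        rw [hsq, hos, hst, hVr]
        push_cast
        have : (a : ℝ) + 1 ≠ 0 := by linarith
        field_simp
        nlinarith
      · have hst2 : 2 ≤ Nat.card (MulAction.stabilizer H w) := by
          have : 0 < Nat.card (MulAction.stabilizer H w) := Nat.card_pos
          omega
        refine tgt_of_fo hw0 (2 * a - 1) (by linarith) ?_ ?_
        · have : Fintype H := Fintype.ofFinite H
          rw [finsum_eq_sum_of_fintype]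
          have hs : ∑ h : H, ((fo w h : ℕ) : ℝ) = Nat.card H := by
            rw [Nat.card_eq_fintype_card, ← sum_fo (H := H) w]
            push_cast
            rfl
          have h1 : ∀ h : H, ((fo w h : ℕ) : ℝ) ^ 2 ≤ (2 * a - 2) * (fo w h : ℝ) +
              (if h = 1 then 2 * (2 * (a : ℝ)) else 0) := by
            intro h
            by_cases hh : h = 1
            · rw [if_pos hh, hh, fo_one, hO2]
              push_cast
              nlinarith
            · rw [if_neg hh]
              have h2 : (fo w h : ℝ) + 2 ≤ 2 * a := by exact_mod_cast (hO2 ▸ fo_add_two_le hirr hw0 hh)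
              nlinarith [Nat.cast_nonneg (α := ℝ) (fo w h)]
          refine (Finset.sum_le_sum fun h _ => h1 h).trans ?_
          rw [Finset.sum_add_distrib, ← Finset.mul_sum, hs, Finset.sum_ite_eq' Finset.univ (1 : H),
            if_pos (Finset.mem_univ _)]
          have h3 : 2 * (2 * (a : ℝ)) ≤ Nat.card H := by
            rw [hos]
            have : ((2 : ℕ) : ℝ) ≤ (Nat.card (MulAction.stabilizer H w) : ℝ) := by exact_mod_cast hst2
            push_cast at this ⊢
            nlinarith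
          linarith
        · rw [hsq, hVr]
          nlinarith

end Cfsg.Agent.H69.Af
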