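import Mathlib
import Cfsg.Agent.H192.Af.Defs

/-!
# S5731, affine core: Clifford's theorem

`H` irreducible on `V`: either all normal subgroups are homogeneous, or the isotypic components of a normal subgroup
form a system of at least two blocks.
-/

set_option autoImplicit false

namespace Cfsg.Agent.H69.Af

open Cfsg.Agent.H717.FieldOf Cfsg.Agent.H192.Af

universe u v

section

variable {V : Type u} [AddCommGroup V] {H : Type v} [Group H] [DistribMulAction H V] (K : Subgroup H) [K.Normal]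

/-- conjugate of a ring element -/
def cjr (h : H) (r : KA V K) : KA V K := ⟨cj V h r, cj_mem K h r.2⟩

theorem cjr_smul (h : H) (r : KA V K) (v : V) : cjr K h r • (h • v) = h • (r • v) := by
  change h • ((r : AddMonoid.End V) (h⁻¹ • (h • v))) = h • ((r : AddMonoid.End V) v)
  rw [inv_smul_smul]

/-- the translate of a submodule -/
def tr (h : H) (W : Submodule (KA V K) V) : Submodule (KA V K) V where
  carrier := {v | h⁻¹ • v ∈ W}
  zero_mem' := by
    change h⁻¹ • (0 : V) ∈ W
    rw [smul_zero]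
    exact zero_mem _
  add_mem' := by
    intro a b ha hb
    change h⁻¹ • (a + b) ∈ W
    rw [smul_add]
    exact add_mem ha hb
  smul_mem' := by
    intro r v hv
    change h⁻¹ • (r • v) ∈ W
    rw [← cjr_smul]
    exact W.smul_mem _ hv

theorem mem_tr {h : H} {W : Submodule (KA V K) V} {v : V} : v ∈ tr K h W ↔ h⁻¹ • v ∈ W := Iff.rfl

theorem smul_mem_tr {h : H} {W : Submodule (KA V K) V} {v : V} (hv : v ∈ W) : h • v ∈ tr K h W := by
  rw [mem_tr, inv_smul_smul]
  exact hv

theorem tr_one (W : Submodule (KA V K) V) : tr K 1 W = W := by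
  ext v
  rw [mem_tr, inv_one, one_smul]

theorem tr_mul (g h : H) (W : Submodule (KA V K) V) : tr K (g * h) W = tr K g (tr K h W) := by
  ext v
  rw [mem_tr, mem_tr, mem_tr, mul_inv_rev, mul_smul]

/-- translation as an order isomorphism -/
def trI (h : H) : Submodule (KA V K) V ≃o Submodule (KA V K) V where
  toFun := tr K h
  invFun := tr K h⁻¹
  left_inv W := by rw [← tr_mul, inv_mul_cancel, tr_one]
  right_inv W := by rw [← tr_mul, mul_inv_cancel, tr_one]
  map_rel_iff' := by
    intro W W'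
    constructor
    · intro hle v hv
      have := hle (smul_mem_tr K (h := h) hv)
      change h⁻¹ • (h • v) ∈ W' at this
      rwa [inv_smul_smul] at this
    · intro hle v hv
      exact hle hv

theorem trI_apply (h : H) (W : Submodule (KA V K) V) : trI K h W = tr K h W := rfl

theorem tr_simple (h : H) (W : Submodule (KA V K) V) (hW : IsSimpleModule (KA V K) W) :
    IsSimpleModule (KA V K) (tr K h W) := by
  rw [isSimpleModule_iff_isAtom] at hW ⊢
  exact ((trI K h).isAtom_iff W).2 hW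

/-- translate of an isomorphism -/
def trE (h : H) {W W' : Submodule (KA V K) V} (e : W →ₗ[KA V K] W') : tr K h W →ₗ[KA V K] tr K h W' where
  toFun x := ⟨h • (e ⟨h⁻¹ • (x : V), x.2⟩ : V), smul_mem_tr K (e _).2⟩
  map_add' x y := by
    apply Subtype.ext
    have h1 : (⟨h⁻¹ • ((x + y : tr K h W) : V), (x + y).2⟩ : W) =
        ⟨h⁻¹ • (x : V), x.2⟩ + ⟨h⁻¹ • (y : V), y.2⟩ := Subtype.ext (smul_add _ _ _)
    change h • (e ⟨h⁻¹ • ((x + y : tr K h W) : V), (x + y).2⟩ : V) = _
    rw [h1, map_add]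
    exact smul_add _ _ _
  map_smul' r x := by
    apply Subtype.ext
    have h1 : (⟨h⁻¹ • ((r • x : tr K h W) : V), (r • x).2⟩ : W) =
        cjr K h⁻¹ r • ⟨h⁻¹ • (x : V), x.2⟩ := Subtype.ext (cjr_smul K h⁻¹ r (x : V)).symm
    change h • (e ⟨h⁻¹ • ((r • x : tr K h W) : V), (r • x).2⟩ : V) = r • (h • (e ⟨h⁻¹ • (x : V), x.2⟩ : V))
    rw [h1, map_smul]
    obtain ⟨z, hz⟩ : ∃ z : V, z = (e ⟨h⁻¹ • (x : V), x.2⟩ : V) := ⟨_, rfl⟩
    change h • (cjr K h⁻¹ r • (e ⟨h⁻¹ • (x : V), x.2⟩ : V)) = _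
    rw [← hz]
    have h2 := cjr_smul K h⁻¹ r (h • z)
    rw [inv_smul_smul] at h2
    rw [h2, smul_inv_smul]

theorem tr_equiv (h : H) {W W' : Submodule (KA V K) V} (e : Nonempty (W ≃ₗ[KA V K] W')) :
    Nonempty (tr K h W ≃ₗ[KA V K] tr K h W') := by
  obtain ⟨e⟩ := e
  refine ⟨LinearEquiv.ofLinear (trE K h e.toLinearMap) (trE K h e.symm.toLinearMap) ?_ ?_⟩
  · ext x
    change h • (e (⟨h⁻¹ • (h • (e.symm ⟨h⁻¹ • (x : V), x.2⟩ : V)), _⟩ : W) : V) = (x : V)
    have h1 : (⟨h⁻¹ • (h • (e.symm ⟨h⁻¹ • (x : V), x.2⟩ : V)), smul_mem_tr K (e.symm _).2⟩ : W) =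
        e.symm ⟨h⁻¹ • (x : V), x.2⟩ := Subtype.ext (inv_smul_smul _ _)
    rw [h1, LinearEquiv.apply_symm_apply, smul_inv_smul]
  · ext x
    change h • (e.symm (⟨h⁻¹ • (h • (e ⟨h⁻¹ • (x : V), x.2⟩ : V)), _⟩ : W') : V) = (x : V)
    have h1 : (⟨h⁻¹ • (h • (e ⟨h⁻¹ • (x : V), x.2⟩ : V)), smul_mem_tr K (e _).2⟩ : W') =
        e ⟨h⁻¹ • (x : V), x.2⟩ := Subtype.ext (inv_smul_smul _ _)
    rw [h1, LinearEquiv.symm_apply_apply, smul_inv_smul]

theorem tr_isotypic (h : H) (S : Submodule (KA V K) V) :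
    tr K h (isotypicComponent (KA V K) V S) = isotypicComponent (KA V K) V (tr K h S) := by
  unfold isotypicComponent
  rw [← trI_apply, OrderIso.map_sSup]
  apply le_antisymm
  · refine iSup₂_le fun m hm => le_sSup ?_
    exact tr_equiv K h hm
  · refine sSup_le fun m hm => ?_
    have h1 := tr_equiv K h⁻¹ hm
    rw [← tr_mul, inv_mul_cancel, tr_one] at h1
    refine le_trans (le_of_eq ?_) (le_iSup₂ (tr K h⁻¹ m) h1)
    rw [trI_apply, ← tr_mul, mul_inv_cancel, tr_one]

theorem tr_mem_components (h : H) {c : Submodule (KA V K) V} (hc : c ∈ isotypicComponents (KA V K) V) :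
    tr K h c ∈ isotypicComponents (KA V K) V := by
  obtain ⟨S, hS, rfl⟩ := hc
  exact ⟨tr K h S, tr_simple K h S hS, tr_isotypic K h S⟩

variable {K}

theorem iSup_tr_eq_top
    (hirr : ∀ U : AddSubgroup V, (∀ (h : H), ∀ w ∈ U, h • w ∈ U) → U = ⊥ ∨ U = ⊤)
    {W : Submodule (KA V K) V} (hW : W ≠ ⊥) : ⨆ h : H, tr K h W = ⊤ := by
  have hinv : ∀ (g : H), ∀ w ∈ (⨆ h : H, tr K h W).toAddSubgroup, g • w ∈ (⨆ h : H, tr K h W).toAddSubgroup := by
    intro g w hw
    have h1 : tr K g (⨆ h : H, tr K h W) ≤ ⨆ h : H, tr K h W := by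
      rw [← trI_apply, OrderIso.map_iSup]
      refine iSup_le fun h => ?_
      rw [trI_apply, ← tr_mul]
      exact le_iSup (fun h => tr K h W) (g * h)
    exact h1 (smul_mem_tr K hw)
  rcases hirr _ hinv with h0 | h0
  · exfalso
    apply hW
    rw [eq_bot_iff]
    intro w hw
    have h1 : w ∈ ⨆ h : H, tr K h W := by
      have := le_iSup (fun h => tr K h W) 1
      rw [tr_one] at this
      exact this hw
    have h2 : w ∈ (⨆ h : H, tr K h W).toAddSubgroup := h1
    rw [h0] at h2
    exact h2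
  · rw [eq_top_iff]
    intro w _
    have h2 : w ∈ (⨆ h : H, tr K h W).toAddSubgroup := by rw [h0]; trivial
    exact h2

theorem semisimple [Finite V] [Nontrivial V]
    (hirr : ∀ U : AddSubgroup V, (∀ (h : H), ∀ w ∈ U, h • w ∈ U) → U = ⊥ ∨ U = ⊤) :
    IsSemisimpleModule (KA V K) V := by
  have hfin : Finite (Submodule (KA V K) V) := Finite.of_injective (fun W => (W : Set V)) SetLike.coe_injective
  obtain ⟨W, hW⟩ := IsAtomic.exists_atom (Submodule (KA V K) V)
  apply IsSemisimpleModule.of_sSup_simples_eq_top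
  rw [eq_top_iff, ← iSup_tr_eq_top hirr hW.1]
  refine iSup_le fun h => le_sSup ?_
  exact tr_simple K h W (isSimpleModule_iff_isAtom.2 hW)

theorem iSup_toAddSubgroup {R : Type*} [Ring R] [Module R V] {ι : Sort*} (C : ι → Submodule R V) :
    (⨆ i, C i).toAddSubgroup = ⨆ i, (C i).toAddSubgroup := by
  apply le_antisymm
  · intro x hx
    have hx' : x ∈ ⨆ i, C i := hx
    refine Submodule.iSup_induction C (motive := fun x => x ∈ ⨆ i, (C i).toAddSubgroup) hx' ?_ (zero_mem _) ?_
    · intro i y hy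
      exact (le_iSup (fun i => (C i).toAddSubgroup) i) hy
    · intro y z hy hz
      exact add_mem hy hz
  · refine iSup_le fun i x hx => ?_
    exact (le_iSup C i) hx

/-- the components are permuted transitively -/
theorem exists_tr_eq
    (hirr : ∀ U : AddSubgroup V, (∀ (h : H), ∀ w ∈ U, h • w ∈ U) → U = ⊥ ∨ U = ⊤)
    {c c' : Submodule (KA V K) V} (hc : c ∈ isotypicComponents (KA V K) V)
    (hc' : c' ∈ isotypicComponents (KA V K) V) : ∃ h : H, tr K h c = c' := by
  by_contra hcon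
  push Not at hcon
  have h1 := sSupIndep_isotypicComponents (KA V K) V hc'
  have h2 : (⊤ : Submodule (KA V K) V) ≤ sSup (isotypicComponents (KA V K) V \ {c'}) := by
    rw [← iSup_tr_eq_top hirr (bot_lt_isotypicComponents hc).ne']
    exact iSup_le fun h => le_sSup ⟨tr_mem_components K h hc, hcon h⟩
  exact (bot_lt_isotypicComponents hc').ne' (h1.eq_bot_of_le (le_top.trans h2))

end

variable {V : Type u} [AddCommGroup V] [Finite V] {H : Type v} [Group H] [Finite H] [DistribMulAction H V]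
  [FaithfulSMul H V]

/-- **Clifford** -/
theorem homog_or_blocks {p : ℕ} (hp : p.Prime) (hpV : ∀ w : V, p • w = 0) [Nontrivial V]
    (hirr : ∀ U : AddSubgroup V, (∀ (h : H), ∀ w ∈ U, h • w ∈ U) → U = ⊥ ∨ U = ⊤) :
    (∀ K : Subgroup H, K.Normal → Homog V K) ∨
    ∃ (k : ℕ) (U : Fin k → AddSubgroup V), 2 ≤ k ∧ iSupIndep U ∧ iSup U = ⊤ ∧ (∀ i, U i ≠ ⊥) ∧
      (∀ (h : H) i, ∃ j, ∀ w ∈ U i, h • w ∈ U j) ∧ (∀ i j, ∃ h : H, ∀ w ∈ U i, h • w ∈ U j) := by
  classical
  by_cases hall : ∀ K : Subgroup H, K.Normal → Homog V K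
  · exact Or.inl hall
  right
  push Not at hall
  obtain ⟨K, hK, hnot⟩ := hall
  have hss : IsSemisimpleModule (KA V K) V := semisimple hirr
  have hiso : ¬ IsIsotypic (KA V K) V := fun h => hnot ⟨hss, h⟩
  have hfin : Finite (Submodule (KA V K) V) := Finite.of_injective (fun W => (W : Set V)) SetLike.coe_injective
  have hfc : Finite (isotypicComponents (KA V K) V) := inferInstance
  have hsup := sSup_isotypicComponents (KA V K) V
  have hind := sSupIndep_isotypicComponents (KA V K) V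
  obtain ⟨k, ⟨e⟩⟩ := Finite.exists_equiv_fin (isotypicComponents (KA V K) V)
  have hk : 2 ≤ k := by
    by_contra hlt
    apply hiso
    have hne : (isotypicComponents (KA V K) V).Nonempty := by
      by_contra he
      rw [Set.not_nonempty_iff_eq_empty] at he
      rw [he, sSup_empty] at hsup
      exact bot_ne_top hsup
    obtain ⟨c, hc⟩ := hne
    have h1 : isotypicComponents (KA V K) V = {c} := by
      ext d
      constructor
      · intro hd
        have hk1 : k ≤ 1 := by omega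
        have : Subsingleton (Fin k) := Fin.subsingleton_iff_le_one.2 hk1
        have h2 : (⟨d, hd⟩ : isotypicComponents (KA V K) V) = ⟨c, hc⟩ := e.injective (Subsingleton.elim _ _)
        exact congrArg Subtype.val h2
      · rintro rfl
        exact hc
    rw [h1, sSup_singleton] at hsup
    have h3 := IsIsotypic.isotypicComponents hc
    rw [hsup] at h3
    exact (Submodule.topEquiv (R := KA V K) (M := V)).isIsotypic_iff.1 h3
  let C : Fin k → Submodule (KA V K) V := fun i => (e.symm i).1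
  have hCmem : ∀ i, C i ∈ isotypicComponents (KA V K) V := fun i => (e.symm i).2
  have hCsurj : ∀ c ∈ isotypicComponents (KA V K) V, ∃ i, C i = c := fun c hc =>
    ⟨e ⟨c, hc⟩, by change (e.symm (e ⟨c, hc⟩)).1 = c; rw [e.symm_apply_apply]⟩
  have hCinj : Function.Injective C := fun i j hij => e.symm.injective (Subtype.ext hij)
  have hCind : iSupIndep C := by
    intro i
    have h1 := hind (hCmem i)
    refine h1.mono_right (iSup₂_le fun j hj => le_sSup ?_)
    exact ⟨hCmem j, fun h => hj (hCinj h)⟩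
  have hCtop : iSup C = ⊤ := by
    rw [eq_top_iff, ← hsup]
    refine sSup_le fun c hc => ?_
    obtain ⟨i, rfl⟩ := hCsurj c hc
    exact le_iSup C i
  refine ⟨k, fun i => (C i).toAddSubgroup, hk, ?_, ?_, ?_, ?_, ?_⟩
  · intro i
    have h1 := hCind i
    simp only [← iSup_toAddSubgroup]
    rw [AddSubgroup.disjoint_def]
    intro x hx hx'
    exact (Submodule.disjoint_def.1 h1) x hx hx'
  · change ⨆ i, (C i).toAddSubgroup = ⊤
    rw [← iSup_toAddSubgroup]
    have h1 : ⨆ i, C i = ⊤ := hCtop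
    rw [h1]
    rfl
  · intro i h0
    apply (bot_lt_isotypicComponents (hCmem i)).ne'
    rw [eq_bot_iff]
    intro w hw
    have h1 : w ∈ (C i).toAddSubgroup := hw
    have h2 : (C i).toAddSubgroup = ⊥ := h0
    rw [h2] at h1
    exact h1
  · intro h i
    obtain ⟨j, hj⟩ := hCsurj _ (tr_mem_components K h (hCmem i))
    refine ⟨j, fun w hw => ?_⟩
    change h • w ∈ C j
    rw [hj]
    exact smul_mem_tr K hw
  · intro i j
    obtain ⟨h, hh⟩ := exists_tr_eq hirr (hCmem i) (hCmem j)
    refine ⟨h, fun w hw => ?_⟩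
    change h • w ∈ C j
    rw [← hh]
    exact smul_mem_tr K hw

end Cfsg.Agent.H69.Af
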